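import Groth.Agent.S0626
import Groth.Agent.S0642
import Groth.Agent.AcycFin.SkyTorsion
import Groth.Agent.CurveEmbed.Equiv
import Groth.Agent.EtMVLib.MV
import Groth.Agent.EtFound.ConstAcyclic

/-!
# The constant sheaf `ℚ` on a noetherian normal scheme is acyclic
-/

set_option autoImplicit false
set_option linter.style.haveILetI false
set_option backward.isDefEq.respectTransparency false
set_option backward.isDefEq.respectTransparency.types false

universe u

open CategoryTheory CategoryTheory.Limits AlgebraicGeometry Opposite Abelian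

noncomputable section

namespace Groth.Agent.RatConst

theorem subsingleton_H_iso {X : Scheme.{u}} {F G : EtCoh.Ab X} (e : F ≅ G) {n : ℕ}
    (h : Subsingleton (EtCoh.H X G n)) : Subsingleton (EtCoh.H X F n) := by
  refine subsingleton_of_forall_eq 0 fun x => ?_
  have h1 : x.comp (Ext.mk₀ e.hom) (add_zero n) = 0 := Subsingleton.elim _ _
  have h2 : (x.comp (Ext.mk₀ e.hom) (add_zero n)).comp (Ext.mk₀ e.inv) (add_zero n) = 0 := by
    rw [h1, Ext.zero_comp]
  rwa [Ext.comp_assoc_of_second_deg_zero, Ext.mk₀_comp_mk₀, Iso.hom_inv_id, Ext.comp_mk₀_id] at h2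

/-- Multiplication by a positive integer is invertible on the constant sheaf `ℚ`. -/
theorem exists_inv_nsmul (X : Scheme.{u}) {N : ℕ} (hN : 0 < N) :
    ∃ g : EtCoh.const X ℚ ⟶ EtCoh.const X ℚ, N • g = 𝟙 _ := by
  let C := constantSheaf X.smallEtaleTopology AddCommGrpCat.{u + 1}
  haveI : C.IsLeftAdjoint := (EtCore.constAdj X).isLeftAdjoint
  haveI : PreservesFiniteColimits C := inferInstance
  haveI : C.Additive := (EtCore.constAdj X).left_adjoint_additive
  let d : AddCommGrpCat.of (ULift.{u + 1} ℚ) ⟶ AddCommGrpCat.of (ULift.{u + 1} ℚ) :=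
    AddCommGrpCat.ofHom (AddMonoidHom.mk' (fun q => ⟨q.down / (N : ℚ)⟩)
      (fun a b => ULift.ext _ _ (add_div a.down b.down (N : ℚ))))
  have hd : N • d = 𝟙 _ := by
    refine AddCommGrpCat.ext fun q => ULift.ext _ _ ?_
    change ((N • d : _ ⟶ _).hom q).down = q.down
    rw [AddCommGrpCat.hom_nsmul]
    show N • (q.down / (N : ℚ)) = q.down
    rw [nsmul_eq_mul, mul_div_cancel₀]
    exact_mod_cast hN.ne'
  exact ⟨C.map d, by rw [← Functor.map_nsmul, hd]; exact C.map_id _⟩

theorem eq_zero_of_nsmul {X : Scheme.{u}} {F : EtCoh.Ab X} {N : ℕ} {g : F ⟶ F} (hg : N • g = 𝟙 F) {n : ℕ}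
    (x : EtCoh.H X F n) (hx : N • x = 0) : x = 0 := by
  have h1 : x.comp (Ext.mk₀ (N • g)) (add_zero n) = x := by rw [hg, Ext.comp_mk₀_id]
  have h2 : x.comp (Ext.mk₀ (N • g)) (add_zero n) = (N • x).comp (Ext.mk₀ g) (add_zero n) := by
    rw [show Ext.mk₀ (N • g) = N • Ext.mk₀ g from map_nsmul (Ext.addEquiv₀.symm : (F ⟶ F) ≃+ _) N g,
      AcycFin.SkyTorsion.nsmul_ext (add_zero n) N x g]
    exact map_nsmul ((Ext.bilinearComp _ F F n 0 n (add_zero n)) x) N _
  rw [← h1, h2, hx, Ext.zero_comp]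

/-- On an integral normal qcqs scheme. -/
theorem subsingleton_H_of_integral (X : Scheme.{u}) [IsIntegral X] [CompactSpace X] [QuasiSeparatedSpace X]
    (hN : ∀ x : X, IsIntegrallyClosed (X.presheaf.stalk x)) (q : ℕ) :
    Subsingleton (EtCoh.H X (EtCoh.const X ℚ) (q + 1)) := by
  haveI := S0626.result X hN ℚ
  let K : Type u := X.functionField
  let i : Spec (CommRingCat.of K) ⟶ X := X.fromSpecStalk (genericPoint X)
  haveI : QuasiCompact i := inferInstanceAs (QuasiCompact (X.fromSpecStalk (genericPoint X)))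
  refine subsingleton_of_forall_eq 0 fun x => ?_
  let e := asIso ((EtCoh.pullPushAdj (X.fromSpecStalk (genericPoint X))).unit.app (EtCoh.const X ℚ))
  have htor : IsOfFinAddOrder (x.comp (Ext.mk₀ e.hom) (add_zero (q + 1))) :=
    AcycFin.SkyTorsion.isAddTorsion_H (K := K) i q
      ((EtCoh.pull (X.fromSpecStalk (genericPoint X))).obj (EtCoh.const X ℚ)) _
  obtain ⟨N, hN0, hNx⟩ := isOfFinAddOrder_iff_nsmul_eq_zero.1 htor
  obtain ⟨g, hg⟩ := exists_inv_nsmul X hN0
  refine eq_zero_of_nsmul hg x ?_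
  have h2 : ((N • x).comp (Ext.mk₀ e.hom) (add_zero (q + 1))) = 0 := by
    rw [AcycFin.SkyTorsion.nsmul_ext (add_zero (q + 1)) N x e.hom]; exact hNx
  have h3 : ((N • x).comp (Ext.mk₀ e.hom) (add_zero (q + 1))).comp (Ext.mk₀ e.inv) (add_zero (q + 1)) = 0 := by
    rw [h2, Ext.zero_comp]
  rwa [Ext.comp_assoc_of_second_deg_zero, Ext.mk₀_comp_mk₀, Iso.hom_inv_id, Ext.comp_mk₀_id] at h3

/-- On a noetherian normal scheme. -/
theorem subsingleton_H (X : Scheme.{u}) [IsNoetherian X] (hN : Pi1.IsNormalScheme X) (q : ℕ) :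
    Subsingleton (EtCoh.H X (EtCoh.const X ℚ) (q + 1)) := by
  suffices key : ∀ (Z : TopologicalSpace.Closeds X) (O : X.Opens), (O : Set X) = Z →
      Subsingleton (EtCoh.H O.toScheme (EtCoh.const O.toScheme ℚ) (q + 1)) by
    haveI := key ⊤ ⊤ rfl
    refine subsingleton_of_forall_eq 0 fun x => ?_
    obtain ⟨δ, -, h1, -, -⟩ := EtMVLib.mayerVietoris X ⊤ ⊥ (by simp) (EtCoh.const X ℚ)
    have hx : x ∈ (AddMonoidHom.prod (EtCore.Hpull (⊤ : X.Opens).ι (EtCoh.const X ℚ) (q + 1))
        (EtCore.Hpull (⊥ : X.Opens).ι (EtCoh.const X ℚ) (q + 1))).ker := by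
      haveI := subsingleton_H_iso (EtCore.pullConst (⊤ : X.Opens).ι ℚ) (key ⊤ ⊤ rfl)
      haveI : IsEmpty ↥(⊥ : X.Opens).toScheme := ⟨fun z => z.2.elim⟩
      haveI := EtFound.ConstAcyclic.subsingleton_H_of_isEmpty ((EtCoh.pull (⊥ : X.Opens).ι).obj (EtCoh.const X ℚ)) (q + 1)
      exact Prod.ext (Subsingleton.elim _ _) (Subsingleton.elim _ _)
    rw [h1] at hx
    obtain ⟨y, rfl⟩ := hx
    haveI : IsEmpty ↥((⊤ ⊓ ⊥ : X.Opens)).toScheme := ⟨fun z => z.2.2.elim⟩
    haveI := EtFound.ConstAcyclic.subsingleton_H_of_isEmpty ((EtCoh.pull (⊤ ⊓ ⊥ : X.Opens).ι).obj (EtCoh.const X ℚ)) q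
    rw [Subsingleton.elim y 0, map_zero]
  intro Z
  induction Z using WellFoundedLT.induction with
  | _ Z ih =>
    intro O hO
    haveI : IsNoetherian O.toScheme :=
      { toIsLocallyNoetherian := inferInstance
        toCompactSpace := isCompact_iff_compactSpace.1 (TopologicalSpace.NoetherianSpace.isCompact _) }
    have hON : Pi1.IsNormalScheme O.toScheme := fun z => by
      let e := asIso (O.ι.stalkMap z)
      haveI := (hN (O.ι z)).1
      haveI := (hN (O.ι z)).2
      haveI : IsDomain (O.toScheme.presheaf.stalk z) := e.commRingCatIsoToRingEquiv.symm.toMulEquiv.isDomain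
      exact ⟨inferInstance, IsIntegrallyClosed.of_equiv e.commRingCatIsoToRingEquiv⟩
    rcases isEmpty_or_nonempty O.toScheme with he | hne
    · exact EtFound.ConstAcyclic.subsingleton_H_of_isEmpty _ _
    by_cases hc : ConnectedSpace O.toScheme
    · haveI := CurveEmbed.isIntegral_of_normal_connected hON
      exact subsingleton_H_of_integral O.toScheme (fun z => (hON z).2) q
    · have hp : ¬ PreconnectedSpace O.toScheme := fun h => hc { toNonempty := hne }
      rw [preconnectedSpace_iff_clopen] at hp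
      push Not at hp
      obtain ⟨s, hs, hs1, hs2⟩ := hp
      let U : O.toScheme.Opens := ⟨s, hs.2⟩
      let V : O.toScheme.Opens := ⟨sᶜ, hs.1.isOpen_compl⟩
      have hcl : ∀ t : Set O.toScheme, IsClopen t → t ≠ Set.univ →
          ∃ (Z' : TopologicalSpace.Closeds X) (O' : X.Opens), Z' < Z ∧ (O' : Set X) = Z' ∧
            Subtype.val '' t = O' := fun t ht htn => by
        have hoc : IsClosed (O : Set X) := hO ▸ Z.isClosed
        refine ⟨⟨Subtype.val '' t, hoc.isClosedMap_subtype_val t ht.1⟩,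
          ⟨Subtype.val '' t, O.2.isOpenMap_subtype_val t ht.2⟩, ?_, rfl, rfl⟩
        refine lt_of_le_of_ne (fun a ⟨b, _, hb⟩ => hb ▸ (hO ▸ b.2 : b.1 ∈ (Z : Set X))) fun he => htn ?_
        refine Set.eq_univ_of_forall fun b => ?_
        have hb : b.1 ∈ Subtype.val '' t := by
          have hb' : b.1 ∈ (Z : Set X) := hO ▸ b.2
          rw [← he] at hb'
          exact hb'
        obtain ⟨c, hc, hce⟩ := hb
        exact Subtype.ext hce ▸ hc
      have hsub : ∀ W : O.toScheme.Opens, IsClopen (W : Set O.toScheme) → (W : Set O.toScheme) ≠ Set.univ →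
          Subsingleton (EtCoh.H W.toScheme ((EtCoh.pull W.ι).obj (EtCoh.const O.toScheme ℚ)) (q + 1)) :=
        fun W hW hWn => by
        obtain ⟨Z', O', hlt, hZO, himg⟩ := hcl _ hW hWn
        have hsub' := ih Z' hlt O' hZO
        have hr : Set.range (W.ι ≫ O.ι).base = Set.range O'.ι.base := by
          rw [Scheme.Opens.range_ι, ← himg, ← Scheme.Opens.range_ι W, ← Set.range_comp]
          rfl
        let e : W.toScheme ≅ O'.toScheme := IsOpenImmersion.isoOfRangeEq (W.ι ≫ O.ι) O'.ι hr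
        refine subsingleton_H_iso (EtCore.pullConst W.ι ℚ) ?_
        refine subsingleton_H_iso (EtCore.pullConst e.hom ℚ).symm ?_
        exact subsingleton_of_forall_eq 0 fun x => by
          haveI := hsub'
          obtain ⟨y, rfl⟩ := (S0642.result e.hom (EtCoh.const O'.toScheme ℚ) (q + 1)).2 x
          rw [Subsingleton.elim y 0, map_zero]
      haveI := hsub U hs hs2
      haveI := hsub V hs.compl (by simpa [V] using hs1.ne_empty)
      obtain ⟨δ, -, h1, -, -⟩ := EtMVLib.mayerVietoris O.toScheme U V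
        (TopologicalSpace.Opens.ext (Set.union_compl_self s)) (EtCoh.const O.toScheme ℚ)
      refine subsingleton_of_forall_eq 0 fun x => ?_
      have hx : x ∈ (AddMonoidHom.prod (EtCore.Hpull U.ι (EtCoh.const O.toScheme ℚ) (q + 1))
          (EtCore.Hpull V.ι (EtCoh.const O.toScheme ℚ) (q + 1))).ker :=
        Prod.ext (Subsingleton.elim _ _) (Subsingleton.elim _ _)
      rw [h1] at hx
      obtain ⟨y, rfl⟩ := hx
      haveI : IsEmpty ↥(U ⊓ V).toScheme := ⟨fun z => z.2.2 z.2.1⟩
      haveI := EtFound.ConstAcyclic.subsingleton_H_of_isEmpty ((EtCoh.pull (U ⊓ V).ι).obj (EtCoh.const O.toScheme ℚ)) q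
      rw [Subsingleton.elim y 0, map_zero]

end Groth.Agent.RatConst
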